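import Groth.Agent.Lib.Cyc26.PullPush
import Groth.Agent.Lib.Cyc26.Stalk
import Groth.Agent.Lib.ModM1.Coh
import Groth.Agent.Lib.ModM1.Loc
import Mathlib.RingTheory.LocalRing.Length

/-! # The cycle of a proper pushforward of a coherent sheaf -/

set_option autoImplicit false
set_option maxHeartbeats 800000
universe u

set_option backward.isDefEq.respectTransparency false
set_option backward.isDefEq.respectTransparency.types false

open CategoryTheory AlgebraicGeometry TopologicalSpace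
open scoped Classical

namespace Groth.Agent.PushSheaf26

variable {X Y : Scheme.{u}}

/-- The map of local rings at a point over `y`. -/
noncomputable def sigma (f : X ⟶ Y) {x : X} {y : Y} (h : f x = y) : Y.presheaf.stalk y ⟶ X.presheaf.stalk x :=
  Y.presheaf.stalkSpecializes (specializes_of_eq h) ≫ f.stalkMap x

theorem sigma_germ (f : X ⟶ Y) {x : X} {y : Y} (h : f x = y) {V : Y.Opens} (hy : y ∈ V) (r : Γ(Y, V)) :
    sigma f h (Y.presheaf.germ V y hy r) = X.presheaf.germ (f ⁻¹ᵁ V) x (show f x ∈ V from h.symm ▸ hy) (f.app V r) := by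
  subst h
  rw [sigma, TopCat.Presheaf.stalkSpecializes_refl, Category.id_comp]
  exact Scheme.Hom.germ_stalkMap_apply f V x hy r

/-- Length of a module over the local ring below. -/
theorem length_over (f : X ⟶ Y) [LocallyOfFiniteType f] {δX : X → ℤ} {δY : Y → ℤ} (hδ : Cyc.DeltaCompat f δX δY)
    {x : X} {y : Y} (h : f x = y) (hd : δX x = δY y) (M : Type u) [AddCommGroup M]
    [Module (X.presheaf.stalk x) M] :
    (letI := Module.compHom M (sigma f h).hom; Module.length (Y.presheaf.stalk y) M) =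
      Module.length (X.presheaf.stalk x) M * (f.residueDegree x : ℕ∞) := by
  subst h
  letI : Algebra (Y.presheaf.stalk (f x)) (X.presheaf.stalk x) := (f.stalkMap x).hom.toAlgebra
  letI : Module (Y.presheaf.stalk (f x)) M := Module.compHom M (f.stalkMap x).hom
  haveI : IsScalarTower (Y.presheaf.stalk (f x)) (X.presheaf.stalk x) M :=
    IsScalarTower.of_algebraMap_smul fun _ _ => rfl
  haveI : IsLocalHom (algebraMap (Y.presheaf.stalk (f x)) (X.presheaf.stalk x)) :=
    inferInstanceAs (IsLocalHom (f.stalkMap x).hom)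
  have key : Module.length (Y.presheaf.stalk (f x)) M =
      Module.length (X.presheaf.stalk x) M * (f.residueDegree x : ℕ∞) := by
    rw [IsLocalRing.length_restrictScalars (Y.presheaf.stalk (f x)) (X.presheaf.stalk x) M]
    congr 1
    have hfin := Cyc26.finite_residueFieldMap_of_delta_eq f hδ hd
    letI := (f.residueFieldMap x).hom.toAlgebra
    haveI : FiniteDimensional (Y.residueField (f x)) (X.residueField x) := RingHom.finite_algebraMap.mp hfin
    refine (Cyc26.length_eq_of_semilinear (R := IsLocalRing.ResidueField (Y.presheaf.stalk (f x)))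
      (S := Y.residueField (f x)) (M := IsLocalRing.ResidueField (X.presheaf.stalk x)) (N := X.residueField x)
      (RingHom.id _) (fun r => ⟨r, rfl⟩) (AddEquiv.refl _) fun r z => ?_).trans
        (Module.length_eq_finrank (Y.residueField (f x)) (X.residueField x))
    obtain ⟨r, rfl⟩ := IsLocalRing.residue_surjective r
    obtain ⟨z, rfl⟩ := IsLocalRing.residue_surjective z
    rfl
  have hs : sigma f (rfl : f x = f x) = f.stalkMap x := by
    rw [sigma, TopCat.Presheaf.stalkSpecializes_refl, Category.id_comp]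
  rw [hs]
  exact key

/-- The map from the stalk of a pushforward to a stalk over it. -/
noncomputable def phi (f : X ⟶ Y) (F : X.Modules) {x : X} {y : Y} (h : f x = y) :
    ((Coh.push f).obj F).presheaf.stalk y ⟶ F.presheaf.stalk x :=
  ((Coh.push f).obj F).presheaf.stalkSpecializes (specializes_of_eq h) ≫
    TopCat.Presheaf.stalkPushforward AddCommGrpCat.{u} f.base F.presheaf x

theorem phi_germ (f : X ⟶ Y) (F : X.Modules) {x : X} {y : Y} (h : f x = y) {V : Y.Opens} (hy : y ∈ V)
    (s : Γ(F, f ⁻¹ᵁ V)) :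
    phi f F h (((Coh.push f).obj F).presheaf.germ V y hy s) =
      F.presheaf.germ (f ⁻¹ᵁ V) x (show f x ∈ V from h.symm ▸ hy) s := by
  subst h
  rw [phi, TopCat.Presheaf.stalkSpecializes_refl, Category.id_comp]
  exact ConcreteCategory.congr_hom
    (TopCat.Presheaf.stalkPushforward_germ AddCommGrpCat.{u} f.base F.presheaf V x hy) s

theorem phi_smul (f : X ⟶ Y) (F : X.Modules) {x : X} {y : Y} (h : f x = y) (r : Y.presheaf.stalk y)
    (a : ((Coh.push f).obj F).presheaf.stalk y) : phi f F h (r • a) = sigma f h r • phi f F h a := by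
  obtain ⟨V, hV, r, rfl⟩ := Y.presheaf.exists_germ_eq r
  obtain ⟨W, hW, m, rfl⟩ := ((Coh.push f).obj F).presheaf.exists_germ_eq a
  rw [← Y.presheaf.germ_res_apply (homOfLE inf_le_left) y (show y ∈ V ⊓ W from ⟨hV, hW⟩) r,
    ← M1.germ_mres ((Coh.push f).obj F) (inf_le_right : V ⊓ W ≤ W) ⟨hV, hW⟩ m, ← M1.germ_smul]
  have hg : ∀ t, phi f F h (((Coh.push f).obj F).presheaf.germ (V ⊓ W) y ⟨hV, hW⟩ t) =
      F.presheaf.germ (f ⁻¹ᵁ (V ⊓ W)) x (show f x ∈ V ⊓ W from h.symm ▸ ⟨hV, hW⟩) t :=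
    fun t => phi_germ f F h _ t
  rw [sigma_germ, hg, hg, ← M1.germ_smul]
  rfl

variable [IsLocallyNoetherian X] (f : X ⟶ Y) [IsProper f]

/-- The stalk of a pushforward at a point over which the support is finite and maximal. -/
theorem bijective_phi (F : X.Modules) (hF : Coh.IsCoh F) (y : Y) (T : Finset X)
    (hT : ∀ x, x ∈ T ↔ Nontrivial (F.presheaf.stalk x) ∧ f x = y)
    (hmax : ∀ x ∈ T, ∀ z, Nontrivial (F.presheaf.stalk z) → z ⤳ x → z = x) :
    Function.Bijective fun (a : ((Coh.push f).obj F).presheaf.stalk y) (x : T) =>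
      phi f F ((hT x.1).1 x.2).2 a := by
  set Sp : Set X := {x | Nontrivial (F.presheaf.stalk x)} with hSpdef
  have hSp : IsClosed Sp := by
    have := M1.isClosed_support hF.2
    convert this using 1
    ext z
    exact not_subsingleton_iff_nontrivial.symm
  have hsub : ∀ z ∉ Sp, Subsingleton (F.presheaf.stalk z) := fun z hz => not_nontrivial_iff_subsingleton.1 hz
  constructor
  · intro a b hab
    rw [← sub_eq_zero]
    set c := a - b with hc
    have hzero : ∀ x : T, phi f F ((hT x.1).1 x.2).2 c = 0 := fun x => by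
      rw [hc, map_sub]
      exact sub_eq_zero.2 (congr_fun hab x)
    obtain ⟨V, hV, s, hs⟩ := ((Coh.push f).obj F).presheaf.exists_germ_eq c
    rw [← hs] at hzero ⊢
    let s' : Γ(F, f ⁻¹ᵁ V) := s
    let O : Set X := {z | ∃ hz : z ∈ f ⁻¹ᵁ V, F.presheaf.germ (f ⁻¹ᵁ V) z hz s' = 0}
    have hO : IsOpen O := by
      rw [isOpen_iff_forall_mem_open]
      rintro z ⟨hz, h0⟩
      obtain ⟨W, hzW, i₁, i₂, e⟩ := TopCat.Presheaf.germ_eq F.presheaf z hz hz s' 0 (h0.trans (map_zero _).symm)
      refine ⟨W, fun w hw => ⟨i₁.le hw, ?_⟩, W.isOpen, hzW⟩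
      rw [← F.presheaf.germ_res_apply i₁ w hw s', e, map_zero, map_zero]
    let C : Set Y := f '' (Sp ∩ Oᶜ)
    have hC : IsClosed C := f.isClosedMap _ (hSp.inter hO.isClosed_compl)
    have hyC : y ∉ C := by
      rintro ⟨z, ⟨hz, hzO⟩, hzy⟩
      have hzT := (hT z).2 ⟨hz, hzy⟩
      exact hzO ⟨show f z ∈ V from hzy.symm ▸ hV, (phi_germ f F hzy hV s).symm.trans (hzero ⟨z, hzT⟩)⟩
    let V' : Y.Opens := V ⊓ ⟨Cᶜ, hC.isOpen_compl⟩
    rw [← M1.germ_mres ((Coh.push f).obj F) (inf_le_left : V' ≤ V) ⟨hV, hyC⟩ s]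
    have h0 : M1.mres ((Coh.push f).obj F) (inf_le_left : V' ≤ V) s = 0 := by
      refine M1.section_ext (M := F) (U := f ⁻¹ᵁ V') _ _ fun z hz => ?_
      by_cases hzS : z ∈ Sp
      · obtain ⟨hzV, h⟩ : z ∈ O := not_not.1 fun hn => hz.2 ⟨z, ⟨hzS, hn⟩, rfl⟩
        rw [map_zero]
        refine (M1.germ_mres F (show f ⁻¹ᵁ V' ≤ f ⁻¹ᵁ V from fun w hw => hw.1) hz s').trans ?_
        exact h
      · haveI := hsub z hzS
        exact Subsingleton.elim _ _
    rw [h0, map_zero]
  · intro m
    have hA : ∀ x : T, ∃ (A : X.Opens) (hx : x.1 ∈ A) (s : Γ(F, A)), F.presheaf.germ A x.1 hx s = m x ∧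
        ∀ z ∈ Sp, z ∈ A → x.1 ⤳ z := by
      intro x
      obtain ⟨A₀, hx₀, s, hs⟩ := F.presheaf.exists_germ_eq (m x)
      obtain ⟨U, hU, hxU, -⟩ := exists_isAffineOpen_mem_and_subset (U := (⊤ : X.Opens)) (x := x.1) trivial
      let M : Set X := {η | η ∈ Sp ∧ (∀ w ∈ Sp, w ⤳ η → w = η) ∧ η ∈ U} \ {x.1}
      have hM : M.Finite := (Cyc26.finite_maximal_points hSp hU).subset Set.sdiff_subset
      have hcl : IsClosed (⋃ η ∈ M, closure ({η} : Set X)) := hM.isClosed_biUnion fun _ _ => isClosed_closure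
      let A : X.Opens := A₀ ⊓ U ⊓ ⟨(⋃ η ∈ M, closure ({η} : Set X))ᶜ, hcl.isOpen_compl⟩
      have hxA : x.1 ∈ A := ⟨⟨hx₀, hxU⟩, fun h => by
        obtain ⟨η, hη, hc⟩ := Set.mem_iUnion₂.1 h
        exact hη.2 (hmax x.1 x.2 η hη.1.1 (specializes_iff_mem_closure.2 hc))⟩
      refine ⟨A, hxA, M1.mres F (inf_le_left.trans inf_le_left) s, by rw [M1.germ_mres]; exact hs, ?_⟩
      intro z hz hzA
      haveI : QuasiSober Sp := hSp.isClosedEmbedding_subtypeVal.quasiSober
      obtain ⟨η, hη⟩ := QuasiSober.sober (irreducibleComponent_mem_irreducibleComponents (⟨z, hz⟩ : Sp)).1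
        isClosed_irreducibleComponent
      have hηz : (η : X) ⤳ z := (subtype_specializes_iff η ⟨z, hz⟩).1
        (specializes_iff_mem_closure.2 ((hη : closure {η} = _).symm ▸ mem_irreducibleComponent))
      have hmax' : ∀ w ∈ Sp, w ⤳ (η : X) → w = η := fun w hw hwη => by
        have h' : (⟨w, hw⟩ : Sp) ⤳ η := (subtype_specializes_iff _ _).2 hwη
        have hle : irreducibleComponent (⟨z, hz⟩ : Sp) ≤ closure {(⟨w, hw⟩ : Sp)} :=
          (hη : closure {η} = _) ▸ specializes_iff_closure_subset.1 h'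
        have heq := (irreducibleComponent_mem_irreducibleComponents (⟨z, hz⟩ : Sp)).2
          isIrreducible_singleton.closure hle
        exact congrArg Subtype.val (Specializes.antisymm h'
          (specializes_iff_closure_subset.2 ((hη : closure {η} = _).symm ▸ heq))).eq
      rcases eq_or_ne (η : X) x.1 with he | he
      · exact he ▸ hηz
      · have hzin : z ∈ ⋃ η ∈ M, closure ({η} : Set X) :=
          Set.mem_iUnion₂.2 ⟨η, ⟨⟨η.2, hmax', hηz.mem_open U.isOpen hzA.1.2⟩, he⟩, specializes_iff_mem_closure.1 hηz⟩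
        exact absurd hzin hzA.2
    choose A hxA s hs hAS using hA
    let D : Set X := (Sp ∩ (⋃ x : T, (A x : Set X))ᶜ) ∪
      ⋃ x : T, ⋃ z : T, if x = z then ∅ else closure ({x.1} : Set X) ∩ closure {z.1}
    have hD : IsClosed D := by
      refine (hSp.inter (isOpen_iUnion fun x => (A x).isOpen).isClosed_compl).union
        (isClosed_iUnion_of_finite fun x => isClosed_iUnion_of_finite fun z => ?_)
      split_ifs
      · exact isClosed_empty
      · exact isClosed_closure.inter isClosed_closure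
    have hyD : y ∉ f '' D := by
      rintro ⟨p, hp, hpy⟩
      rcases hp with ⟨hpS, hpA⟩ | hp
      · exact hpA (Set.mem_iUnion.2 ⟨⟨p, (hT p).2 ⟨hpS, hpy⟩⟩, hxA _⟩)
      · obtain ⟨x, hp⟩ := Set.mem_iUnion.1 hp
        obtain ⟨z, hp⟩ := Set.mem_iUnion.1 hp
        split_ifs at hp with hxz
        · exact hp
        have hxS : x.1 ∈ Sp := ((hT x.1).1 x.2).1
        have hzS : z.1 ∈ Sp := ((hT z.1).1 z.2).1
        have hxp := specializes_iff_mem_closure.2 hp.1
        have hzp := specializes_iff_mem_closure.2 hp.2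
        have hpT := (hT p).2 ⟨hxp.mem_closed hSp hxS, hpy⟩
        exact hxz (Subtype.ext ((hmax p hpT x.1 hxS hxp).trans (hmax p hpT z.1 hzS hzp).symm))
    let V : Y.Opens := ⟨(f '' D)ᶜ, (f.isClosedMap _ hD).isOpen_compl⟩
    let B : Option T → X.Opens := fun o => match o with
      | none => f ⁻¹ᵁ V ⊓ ⟨Spᶜ, hSp.isOpen_compl⟩
      | some x => f ⁻¹ᵁ V ⊓ A x ⊓ ⟨(⋃ z : T, if x = z then ∅ else closure ({z.1} : Set X))ᶜ,
          (isClosed_iUnion_of_finite fun z => by split_ifs <;> [exact isClosed_empty; exact isClosed_closure]).isOpen_compl⟩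
    let sf : ∀ o : Option T, Γ(F, B o) := fun o => match o with
      | none => 0
      | some x => M1.mres F (inf_le_left.trans inf_le_right) (s x)
    have hnot : ∀ (x : T) (p : X), p ∈ B (some x) → ∀ z : T, z ≠ x → ¬ z.1 ⤳ p := fun x p hp z hne h =>
      hp.2 (Set.mem_iUnion.2 ⟨z, by rw [if_neg (Ne.symm hne)]; exact specializes_iff_mem_closure.1 h⟩)
    have hcomp : TopCat.Presheaf.IsCompatible F.presheaf B sf := by
      intro i j
      refine M1.section_ext (M := F) (U := B i ⊓ B j) _ _ fun p hp => ?_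
      by_cases hpS : p ∈ Sp
      · rcases i with _ | x
        · exact (hp.1.2 hpS).elim
        rcases j with _ | z
        · exact (hp.2.2 hpS).elim
        by_cases hxz : x = z
        · subst hxz; rfl
        · exact (hnot z p hp.2 x hxz (hAS x p hpS hp.1.1.2)).elim
      · haveI := hsub p hpS
        exact Subsingleton.elim _ _
    have hcover : f ⁻¹ᵁ V ≤ iSup B := by
      intro p hp
      refine Opens.mem_iSup.2 ?_
      by_cases hpS : p ∈ Sp
      · have hpD : p ∉ D := fun h => hp ⟨p, h, rfl⟩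
        obtain ⟨x, hx⟩ := Set.mem_iUnion.1 (not_not.1 fun h => hpD (Or.inl ⟨hpS, h⟩))
        refine ⟨some x, ⟨hp, hx⟩, fun h => ?_⟩
        obtain ⟨z, hz⟩ := Set.mem_iUnion.1 h
        split_ifs at hz with hxz
        · exact hz
        exact hpD (Or.inr (Set.mem_iUnion.2 ⟨x, Set.mem_iUnion.2 ⟨z, by
          rw [if_neg hxz]; exact ⟨specializes_iff_mem_closure.1 (hAS x p hpS hx), hz⟩⟩⟩))
      · exact ⟨none, hp, hpS⟩
    have hle : ∀ o, B o ≤ f ⁻¹ᵁ V := fun o => match o with
      | none => inf_le_left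
      | some x => inf_le_left.trans inf_le_left
    obtain ⟨S, hS, -⟩ := TopCat.Sheaf.existsUnique_gluing' ⟨_, F.isSheaf⟩ B (f ⁻¹ᵁ V) (fun o => homOfLE (hle o))
      hcover sf hcomp
    refine ⟨((Coh.push f).obj F).presheaf.germ V y hyD S, funext fun x => ?_⟩
    obtain ⟨hxS, hxy⟩ := (hT x.1).1 x.2
    have hxV : x.1 ∈ f ⁻¹ᵁ V := show f x.1 ∈ V from hxy.symm ▸ hyD
    have hxB : x.1 ∈ B (some x) := ⟨⟨hxV, hxA x⟩, fun h => by
      obtain ⟨z, hz⟩ := Set.mem_iUnion.1 h
      split_ifs at hz with hxz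
      · exact hz
      exact hxz (Subtype.ext (hmax x.1 x.2 z.1 ((hT z.1).1 z.2).1 (specializes_iff_mem_closure.2 hz)).symm)⟩
    refine (phi_germ f F hxy hyD S).trans ?_
    rw [← M1.germ_mres F (hle (some x)) hxB S, show M1.mres F (hle (some x)) S = sf (some x) from hS (some x)]
    exact (M1.germ_mres F _ hxB (s x)).trans (hs x)

/-- `f_*[F]_k = [f_* F]_k`. -/
theorem map_sheafFun {δX : X → ℤ} {δY : Y → ℤ} (hdX : Cyc.IsDimFun X δX) (hδ : Cyc.DeltaCompat f δX δY) (k : ℤ)
    (F : X.Modules) (hF : Coh.IsCoh F) (hdim : ∀ x : X, Nontrivial (F.presheaf.stalk x) → δX x ≤ k)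
    (α : AlgebraicCycle X ℤ) (hα : ⇑α = Cyc.sheafFun δX k F) :
    ⇑(AlgebraicCycle.map f δX δY α) = Cyc.sheafFun δY k ((Coh.push f).obj F) := by
  funext y
  have hα0 : ∀ x, α x ≠ 0 → δX x = k ∧ Nontrivial (F.presheaf.stalk x) := fun x hx => by
    rw [hα] at hx
    simp only [Cyc.sheafFun] at hx
    split_ifs at hx with h
    · refine ⟨h, not_subsingleton_iff_nontrivial.1 fun hs => hx ?_⟩
      rw [Module.length_eq_zero]
      rfl
    · exact (hx rfl).elim
  by_cases hy : δY y = k
  swap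
  · rw [Cyc26.map_apply_eq_sum f δX δY α y ∅ (by simp) fun x hxy hx hd => ?_]
    · simp [Cyc.sheafFun, hy]
    · exact absurd (by rw [← hxy, ← hd, (hα0 x hx).1]) hy
  have hk : ∀ x, Nontrivial (F.presheaf.stalk x) → f x = y → δX x = k := fun x hx hxy => by
    have h1 := Cyc26.delta_image_le f hδ x
    have h2 := hdim x hx
    rw [hxy, hy] at h1
    omega
  have hmax : ∀ x, Nontrivial (F.presheaf.stalk x) → f x = y → ∀ z, Nontrivial (F.presheaf.stalk z) → z ⤳ x → z = x :=
    fun x hx hxy z hz h => by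
      by_contra hne
      have h1 := (hdX z x h hne).1
      have h2 := hdim z hz
      have h3 := hk x hx hxy
      omega
  set Sp : Set X := {x | Nontrivial (F.presheaf.stalk x)} with hSpdef
  have hSp : IsClosed Sp := by
    have := M1.isClosed_support hF.2
    convert this using 1
    ext z
    exact not_subsingleton_iff_nontrivial.symm
  have hfin : {x | Nontrivial (F.presheaf.stalk x) ∧ f x = y}.Finite := by
    obtain ⟨W, hW, hyW, -⟩ := exists_isAffineOpen_mem_and_subset (U := (⊤ : Y.Opens)) (x := y) trivial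
    choose U hU hxU _ using fun x : X => exists_isAffineOpen_mem_and_subset (U := (⊤ : X.Opens)) (x := x) trivial
    obtain ⟨t, ht⟩ := (f.isCompact_preimage hW.isCompact).elim_finite_subcover (fun x => (U x : Set X))
      (fun x => (U x).isOpen) (fun x _ => Set.mem_iUnion.2 ⟨x, hxU x⟩)
    refine (t.finite_toSet.biUnion fun u _ => Cyc26.finite_maximal_points hSp (hU u)).subset fun x hx => ?_
    obtain ⟨u, hu, hxu⟩ := Set.mem_iUnion₂.1 (ht (show f x ∈ (W : Set Y) from hx.2.symm ▸ hyW))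
    exact Set.mem_iUnion₂.2 ⟨u, hu, hx.1, hmax x hx.1 hx.2, hxu⟩
  let T := hfin.toFinset
  have hT : ∀ x, x ∈ T ↔ Nontrivial (F.presheaf.stalk x) ∧ f x = y := fun x => hfin.mem_toFinset
  rw [Cyc26.map_apply_eq_sum f δX δY α y T (fun x hx => ((hT x).1 hx).2)
    (fun x hxy hx _ => (hT x).2 ⟨(hα0 x hx).2, hxy⟩)]
  letI : ∀ x : T, Module (Y.presheaf.stalk y) (F.presheaf.stalk x.1) :=
    fun x => Module.compHom _ (sigma f ((hT x.1).1 x.2).2).hom
  let e : ((Coh.push f).obj F).presheaf.stalk y ≃ₗ[Y.presheaf.stalk y] ((x : T) → F.presheaf.stalk x.1) :=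
    LinearEquiv.ofBijective
      { toFun := fun (a : ((Coh.push f).obj F).presheaf.stalk y) (x : T) => phi f F ((hT x.1).1 x.2).2 a
        map_add' := fun a b => funext fun x => map_add (phi f F ((hT x.1).1 x.2).2).hom a b
        map_smul' := fun r a => funext fun x => phi_smul f F ((hT x.1).1 x.2).2 r a }
      (bijective_phi f F hF y T hT fun x hx => hmax x ((hT x).1 hx).1 ((hT x).1 hx).2)
  have hlen : ∀ x : T, Module.length (Y.presheaf.stalk y) (F.presheaf.stalk x.1) =
      Module.length (X.presheaf.stalk x.1) (F.presheaf.stalk x.1) * (f.residueDegree x.1 : ℕ∞) := fun x => by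
    obtain ⟨h1, h2⟩ := (hT x.1).1 x.2
    exact length_over f hδ h2 (by rw [hk x.1 h1 h2, hy]) _
  have hne : ∀ x : T, Module.length (X.presheaf.stalk x.1) (F.presheaf.stalk x.1) ≠ ⊤ := fun x => by
    obtain ⟨h1, h2⟩ := (hT x.1).1 x.2
    exact Cyc26.length_stalk_ne_top hF fun z hz h => hmax x.1 h1 h2 z hz h
  simp only [Cyc.sheafFun, if_pos hy]
  rw [e.length_eq, Module.length_pi_of_fintype, ENat.toNat_sum fun x _ => ?_, ← Finset.sum_coe_sort T]
  · push_cast
    refine Finset.sum_congr rfl fun x _ => ?_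
    obtain ⟨h1, h2⟩ := (hT x.1).1 x.2
    rw [hlen x, ENat.toNat_mul, ENat.toNat_natCast, AlgebraicCycle.mapCoeff,
      if_pos (by rw [hk x.1 h1 h2, show f.base x.1 = y from h2, hy]), hα, Cyc.sheafFun, if_pos (hk x.1 h1 h2)]
    push_cast
    rfl
  · rw [hlen x]
    exact WithTop.mul_ne_top (hne x) (ENat.coe_ne_top _)

end Groth.Agent.PushSheaf26
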